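import Cfsg.Agent.Fischer.StepSp.Space

/-!
A symplectic perp set gives an orthogonal class in at least two dimensions more.
-/

set_option autoImplicit false
set_option linter.unusedSectionVars false

namespace Cfsg.Lib.Fischer.SpUp

open Cfsg Subgroup Cfsg.Lib.ThreeTr
open Cfsg.Lib.Fischer.Two
open Cfsg.Lib.ThreeTr.TwoCorePerp (ind ind_eq_zero ind_swap ind_self)

universe u

variable {G : Type u} [Group G] [Finite G] {D : Set G} {n : ℕ}

theorem ind_injOn (C : Ctx D n) {a b : G} (ha : a ∈ D) (hb : b ∈ D) (h : ind D a = ind D b) : a = b :=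
  eq_of_vRel_of_primitive C.rich.prim C.rich.cls ha hb fun e he => by
    rw [← valueAt_ind he, h, valueAt_ind he]

theorem ind_ne (C : Ctx D n) {a : G} (ha : a ∈ D) : ind D a ≠ 0 := fun h => by
  obtain ⟨c, hc, hac⟩ := ThreeTr.exists_not_commute C.rich.cls C.rich.two ha
  have := valueAt_ind_one (D := D) hc hac
  rw [h, valueAt_zero] at this
  exact zero_ne_one this

/-- The space carries a nondegenerate alternating form evaluating at the members. -/
theorem exists_form :
    ∃ β : LinearMap.BilinForm (ZMod 2) (indSpace D), β.IsAlt ∧ β.Nondegenerate ∧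
      ∀ (v : indSpace D) (a : G) (ha : a ∈ D), β v ⟨ind D a, ind_mem ha⟩ = valueAt v.1 a := by
  classical
  obtain ⟨_⟩ := nonempty_fintype ↥D
  set Φ := Fintype.linearCombination (ZMod 2) (fun a : ↥D => ind D a.1) with hΦ
  have happ : ∀ c e, Φ c e = ∑ a, c a * ind D a.1 e := fun c e => by
    simp [hΦ, Fintype.linearCombination_apply, Finset.sum_apply]
  have hr : LinearMap.range Φ = indSpace D := by
    rw [hΦ, Fintype.range_linearCombination, indSpace, Set.image_eq_range]
  obtain ⟨s, hs⟩ : ∃ s : indSpace D →ₗ[ZMod 2] (↥D → ZMod 2), ∀ v, Φ (s v) = v.1 := by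
    obtain ⟨t, ht⟩ := Φ.rangeRestrict.exists_rightInverse_of_surjective Φ.range_rangeRestrict
    refine ⟨t.comp (LinearEquiv.ofEq _ _ hr).symm.toLinearMap, fun v => ?_⟩
    exact congrArg Subtype.val (LinearMap.congr_fun ht ((LinearEquiv.ofEq _ _ hr).symm v))
  let β : LinearMap.BilinForm (ZMod 2) (indSpace D) := LinearMap.mk₂ (ZMod 2) (fun u v => ∑ e, s u e * v.1 e)
    (fun u u' v => by simp [add_mul, Finset.sum_add_distrib])
    (fun c u v => by simp [Finset.mul_sum, mul_assoc])
    (fun u v v' => by simp [mul_add, Finset.sum_add_distrib])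
    (fun c u v => by simp [Finset.mul_sum, mul_left_comm])
  have hind : ∀ (v : indSpace D) (a : G) (ha : a ∈ D), β v ⟨ind D a, ind_mem ha⟩ = valueAt v.1 a := by
    intro v a ha
    show ∑ e, s v e * ind D a e = _
    rw [show valueAt v.1 a = v.1 ⟨a, ha⟩ from valueAt_mem _ ⟨a, ha⟩, ← hs v, happ]
    exact Finset.sum_congr rfl fun e _ => by rw [ind_swap e ⟨a, ha⟩]
  have hpair : ∀ u v, β u v = ∑ e, ∑ a, s u e * s v a * ind D a.1 e := fun u v => by
    show ∑ e, s u e * v.1 e = _
    simp only [← hs v, happ, Finset.mul_sum, mul_assoc]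
  have hsymm : ∀ u v, β u v = β v u := fun u v => by
    rw [hpair, hpair, Finset.sum_comm]
    exact Finset.sum_congr rfl fun e _ => Finset.sum_congr rfl fun a _ => by rw [ind_swap e a]; ring
  have hgen : ∀ v : indSpace D, v ∈ Submodule.span (ZMod 2) {w : indSpace D | w.1 ∈ ind D '' D} := fun v => by
    rw [show v = ∑ a, s v a • (⟨ind D a.1, ind_mem a.2⟩ : indSpace D) from Subtype.ext (by
      rw [← hs v, hΦ, Fintype.linearCombination_apply]; simp)]
    exact Submodule.sum_mem _ fun a _ => Submodule.smul_mem _ _ (Submodule.subset_span ⟨a.1, a.2, rfl⟩)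
  have halt : β.IsAlt := fun v => by
    induction hgen v using Submodule.span_induction with
    | mem w hw =>
      obtain ⟨a, ha, e⟩ := hw
      obtain rfl : (⟨ind D a, ind_mem ha⟩ : indSpace D) = w := Subtype.ext e
      rw [hind _ a ha]
      exact (valueAt_ind ha).2 (Commute.refl a)
    | zero => simp
    | add x y _ _ hx hy =>
      rw [map_add, map_add, LinearMap.add_apply, LinearMap.add_apply, hx, hy, hsymm x y]
      simp [CharTwo.add_self_eq_zero]
    | smul c x _ hx => simp [hx]
  have hnd : ∀ v, (∀ w, β v w = 0) → v = 0 := fun v h => Subtype.ext (funext fun x => by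
    have := h ⟨ind D x.1, ind_mem x.2⟩
    rwa [hind _ _ x.2, valueAt_mem] at this)
  exact ⟨β, halt, ⟨hnd, fun v h => hnd v fun w => (hsymm v w).trans (h w)⟩, hind⟩

/-- The indicators generate the space. -/
theorem span_ind : Submodule.span (ZMod 2) {w : indSpace D | w.1 ∈ ind D '' D} = ⊤ := by
  refine Submodule.map_injective_of_injective (indSpace D).subtype_injective ?_
  rw [Submodule.map_span, Submodule.map_top, Submodule.range_subtype]
  refine congrArg (Submodule.span (ZMod 2)) (Set.ext fun v => ⟨?_, ?_⟩)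
  · rintro ⟨w, hw, rfl⟩; exact hw
  · rintro ⟨a, ha, rfl⟩; exact ⟨⟨ind D a, ind_mem ha⟩, ⟨a, ha, rfl⟩, rfl⟩

/-- Two dimensions more than the neighbours. -/
theorem finrank_indSpace (C : Ctx D n) {d : G} (hd : d ∈ D) : n + 2 ≤ Module.finrank (ZMod 2) (indSpace D) := by
  obtain ⟨B, f, M⟩ := C.exists_model hd
  obtain ⟨c, hc, hdc⟩ := ThreeTr.exists_not_commute C.rich.cls C.rich.two hd
  let R : indSpace D →ₗ[ZMod 2] (ZMod 2 × ZMod 2) × ((Fin n → ZMod 2) → ZMod 2) :=
    { toFun := fun v => ((valueAt v.1 d, valueAt v.1 c), phi D d f v.1)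
      map_add' := fun v w => by simp [valueAt_add]
      map_smul' := fun a v => by simp [valueAt_smul] }
  let J : (ZMod 2 × ZMod 2) × (Fin n → ZMod 2) →ₗ[ZMod 2] (ZMod 2 × ZMod 2) × ((Fin n → ZMod 2) → ZMod 2) :=
    { toFun := fun t => (t.1, t.1.1 • one1 (trace D d c f) + fun z => B t.2 z)
      map_add' := fun t t' => by
        refine Prod.ext rfl (funext fun z => ?_)
        simp only [Prod.fst_add, Prod.snd_add, map_add, Pi.add_apply, LinearMap.add_apply, Pi.smul_apply,
          smul_eq_mul]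
        ring
      map_smul' := fun a t => by
        refine Prod.ext rfl (funext fun z => ?_)
        simp only [RingHom.id_apply, Prod.smul_fst, Prod.smul_snd, map_smul, Pi.add_apply, LinearMap.smul_apply,
          Pi.smul_apply, smul_eq_mul]
        ring }
  have hinj : Function.Injective J := by
    rw [← LinearMap.ker_eq_bot, LinearMap.ker_eq_bot']
    rintro ⟨⟨a, b⟩, w⟩ h
    obtain ⟨h1, h2⟩ := Prod.ext_iff.1 h
    obtain ⟨rfl, rfl⟩ := Prod.mk.inj h1
    refine Prod.ext rfl (M.nd.1 w fun z => ?_)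
    simpa [J] using congrFun h2 z
  have hle : LinearMap.range J ≤ LinearMap.range R := by
    have hC : J ((1, 0), 0) = R ⟨ind D c, ind_mem hc⟩ := by
      refine Prod.ext (Prod.ext (valueAt_ind_one hd fun e => hdc e.symm).symm
        ((valueAt_ind hc).2 (Commute.refl c)).symm) ?_
      show (1 : ZMod 2) • one1 (trace D d c f) + (fun z => B 0 z) = phi D d f (ind D c)
      rw [phi_ind_far M hd hdc]
      funext z; simp
    have hDd : J ((0, 1), 0) = R ⟨ind D d, ind_mem hd⟩ := by
      refine Prod.ext (Prod.ext ((valueAt_ind hd).2 (Commute.refl d)).symm (valueAt_ind_one hc hdc).symm) ?_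
      show (0 : ZMod 2) • one1 (trace D d c f) + (fun z => B 0 z) = phi D d f (ind D d)
      rw [phi_ind_self M hd]
      funext z; simp
    rintro _ ⟨⟨⟨a, b⟩, w⟩, rfl⟩
    have hsplit : ((a, b), w) = a • ((1, 0), (0 : Fin n → ZMod 2)) + b • ((0, 1), (0 : Fin n → ZMod 2)) +
        ((0, 0), w) := by simp
    rw [hsplit, map_add, map_add, map_smul, map_smul, hC, hDd]
    refine add_mem (add_mem (Submodule.smul_mem _ _ ⟨_, rfl⟩) (Submodule.smul_mem _ _ ⟨_, rfl⟩)) ?_
    rcases eq_or_ne w 0 with rfl | hw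
    · rw [show (((0, 0), 0) : (ZMod 2 × ZMod 2) × (Fin n → ZMod 2)) = 0 from rfl, map_zero]; exact zero_mem _
    obtain ⟨e, he, rfl⟩ := exists_pre M.co hw
    have hE : J ((0, 0), f e) + valueAt (ind D e) c • J ((0, 1), 0) = R ⟨ind D e, ind_mem he.1⟩ := by
      refine Prod.ext (Prod.ext ?_ ?_) ?_
      · simp [J, R, (valueAt_ind hd).2 he.2.2.symm]
      · simp [J, R]
      · funext z; simp [J, R, phi_ind_perp M hd he]
    rw [eq_sub_of_add_eq hE, hDd]
    exact sub_mem ⟨_, rfl⟩ (Submodule.smul_mem _ _ ⟨_, rfl⟩)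
  have h1 := (Submodule.finrank_mono hle).trans (LinearMap.finrank_range_le R)
  rw [LinearMap.finrank_range_of_inj hinj, Module.finrank_prod, Module.finrank_prod, Module.finrank_self,
    Module.finrank_fin_fun] at h1
  omega

/-- The orthogonal labels. -/
theorem exists_oLike (C : Ctx D n) : ∃ m, n + 2 ≤ m ∧ OLike D m := by
  classical
  obtain ⟨β, hA, hN, hind⟩ := exists_form (D := D)
  set S : Set (indSpace D) := {w | w.1 ∈ ind D '' D} with hS
  have h0 : (0 : indSpace D) ∉ S := by
    rintro ⟨a, ha, e⟩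
    exact ind_ne C ha e
  have hone : ∀ y ∈ S, ∀ v, β y v = 0 → v ≠ 0 → v ≠ y → (v + y ∈ S ↔ v ∉ S) := by
    rintro y ⟨d, hd, e⟩ v hv hv0 hvy
    obtain rfl : (⟨ind D d, ind_mem hd⟩ : indSpace D) = y := Subtype.ext e
    rw [alt_symm hA, hind v d hd] at hv
    exact ind_one C hd v.2 hv (fun h => hv0 (Subtype.ext h)) fun h => hvy (Subtype.ext h)
  have hadd : ∀ y ∈ S, ∀ v ∈ S, β y v = 1 → v + y ∈ S := by
    rintro y ⟨b, hb, e⟩ v ⟨a, ha, e'⟩ h
    obtain rfl : (⟨ind D b, ind_mem hb⟩ : indSpace D) = y := Subtype.ext e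
    obtain rfl : (⟨ind D a, ind_mem ha⟩ : indSpace D) = v := Subtype.ext e'
    rw [hind _ a ha] at h
    have hab : ¬ Commute a b := fun c => by
      rw [(valueAt_ind ha).2 c.symm] at h
      exact zero_ne_one h
    exact ⟨a * b * a, conj_invol_mem C.rich.cls ha hb, (ind_add C ha hb hab).symm⟩
  set q := one1 S with hq
  have hlaw : ∀ v w, q (v + w) = q v + q w + β v w := one1_add hA h0 hone hadd span_ind
  have hq0 : q 0 = 0 := one1_eq_zero.2 h0
  have hpol : ∀ v w, QuadraticMap.polar q v w = β v w := fun v w => by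
    rw [QuadraticMap.polar, hlaw]; ring
  let Q : QuadraticForm (ZMod 2) (indSpace D) := QuadraticMap.ofPolar q
    (fun a x => by rcases bit a with rfl | rfl <;> simp [hq0])
    (fun x x' y => by simp only [hpol, map_add, LinearMap.add_apply])
    (fun a x y => by simp only [hpol, map_smul, LinearMap.smul_apply])
  set m := Module.finrank (ZMod 2) (indSpace D) with hm
  set E : indSpace D ≃ₗ[ZMod 2] (Fin m → ZMod 2) := (Module.finBasis (ZMod 2) (indSpace D)).equivFun
  set Q' : QuadraticForm (ZMod 2) (Fin m → ZMod 2) := Q.comp E.symm.toLinearMap with hQ'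
  have hQ : ∀ v, Q' v = q (E.symm v) := fun v => rfl
  have hpol' : ∀ v w, QuadraticMap.polar Q' v w = β (E.symm v) (E.symm w) := fun v w => by
    rw [← hpol]
    simp only [QuadraticMap.polar, hQ, map_add]
  obtain ⟨d, hd, -⟩ := C.rich.cls.2.1
  refine ⟨m, hm ▸ finrank_indSpace C hd, Q', ⟨fun v hv => ?_, fun v hv => ?_⟩,
    fun x => if h : x ∈ D then E ⟨ind D x, ind_mem h⟩ else 0,
    ⟨fun x hx => ?_, fun v hv => ?_, fun x hx y hy a e => ?_, fun x hx y hy _ => ?_⟩⟩
  · refine E.symm.map_eq_zero_iff.1 (hN.1 _ fun w => ?_)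
    have := hv (E w)
    rwa [QuadraticMap.polarBilin_apply_apply, hpol', LinearEquiv.symm_apply_apply] at this
  · refine E.symm.map_eq_zero_iff.1 (hN.2 _ fun w => ?_)
    have := hv (E w)
    rwa [QuadraticMap.polarBilin_apply_apply, hpol', LinearEquiv.symm_apply_apply] at this
  · simp only [dif_pos hx, hQ, LinearEquiv.symm_apply_apply]
    exact one1_eq_one.2 ⟨x, hx, rfl⟩
  · rw [hQ] at hv
    obtain ⟨a, ha, e⟩ := one1_eq_one.1 hv
    refine ⟨a, ha, 1, one_ne_zero, ?_⟩
    rw [one_smul, dif_pos ha, show (⟨ind D a, ind_mem ha⟩ : indSpace D) = E.symm v from Subtype.ext e,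
      LinearEquiv.apply_symm_apply]
  · rw [dif_pos hx, dif_pos hy] at e
    rcases bit a with rfl | rfl
    · rw [zero_smul] at e
      exact absurd (congrArg Subtype.val (E.map_eq_zero_iff.1 e)) (ind_ne C hy)
    · rw [one_smul] at e
      exact ind_injOn C hx hy (congrArg Subtype.val (E.injective e)).symm
  · simp only [dif_pos hx, dif_pos hy, hpol', LinearEquiv.symm_apply_apply, hind _ y hy]
    exact (valueAt_ind hy).symm

theorem stepSp : StepSp.{u} := fun _ _ _ _ hS _ hd _ hn hp => exists_oLike (Ctx.of_one hS.rich hn hd hp)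

end Cfsg.Lib.Fischer.SpUp
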