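import Cfsg.Agent.Fischer.StepSp.Trace
import Cfsg.Agent.S5354

/-!
The indicators of not commuting span a space with a symmetric pairing, in which each member is one of exactly one
pair of vectors differing by a given member.
-/

set_option autoImplicit false
set_option linter.unusedSectionVars false

namespace Cfsg.Lib.Fischer.SpUp

open Cfsg Subgroup Cfsg.Lib.ThreeTr
open Cfsg.Lib.Fischer.Two
open Cfsg.Lib.ThreeTr.TwoCorePerp (ind ind_eq_zero ind_swap ind_self)

universe u

variable {G : Type u} [Group G] [Finite G] {D : Set G} {n : ℕ}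

open _root_.Classical in
/-- The value of a function on the members at an element of the group. -/
noncomputable def valueAt (v : ↥D → ZMod 2) (x : G) : ZMod 2 := if h : x ∈ D then v ⟨x, h⟩ else 0

theorem valueAt_mem (v : ↥D → ZMod 2) (x : ↥D) : valueAt v x.1 = v x := dif_pos x.2

theorem valueAt_zero (x : G) : valueAt (0 : ↥D → ZMod 2) x = 0 := by simp [valueAt]

theorem valueAt_add (v w : ↥D → ZMod 2) (x : G) : valueAt (v + w) x = valueAt v x + valueAt w x := by
  unfold valueAt; split_ifs <;> simp

theorem valueAt_smul (c : ZMod 2) (v : ↥D → ZMod 2) (x : G) : valueAt (c • v) x = c * valueAt v x := by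
  unfold valueAt; split_ifs <;> simp

theorem valueAt_ind {a x : G} (hx : x ∈ D) : valueAt (ind D a) x = 0 ↔ Commute a x := by
  rw [valueAt, dif_pos hx, ind_eq_zero]

theorem valueAt_ind_one {a x : G} (hx : x ∈ D) (h : ¬ Commute a x) : valueAt (ind D a) x = 1 :=
  ne_zero_iff.1 fun e => h ((valueAt_ind hx).1 e)

/-- The span of the indicators. -/
noncomputable def indSpace (D : Set G) : Submodule (ZMod 2) (↥D → ZMod 2) := Submodule.span (ZMod 2) (ind D '' D)

theorem ind_mem {a : G} (ha : a ∈ D) : ind D a ∈ indSpace D := Submodule.subset_span ⟨a, ha, rfl⟩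

theorem ind_add (C : Ctx D n) {a b : G} (ha : a ∈ D) (hb : b ∈ D) (h : ¬ Commute a b) :
    ind D a + ind D b = ind D (a * b * a) := by
  have htr := C.rich.cls.1
  funext y
  by_cases h1 : Commute a y.1 <;> by_cases h2 : Commute b y.1
  · have : Commute (a * b * a) y.1 := (h1.mul_left h2).mul_left h1
    simp [ind, h1, h2, this]
  · have h3 : ¬ Commute (a * b * a) y.1 := fun c => h2 (by
      have := (h1.mul_left c).mul_left h1
      rwa [invol_conj_conj (sq_eq_one htr ha)] at this)
    simp [ind, h1, h2, h3]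
  · have h3 : ¬ Commute (a * b * a) y.1 := fun c => h1 (by
      rw [braid htr ha hb h] at c
      have := (h2.mul_left c).mul_left h2
      rwa [invol_conj_conj (sq_eq_one htr hb)] at this)
    simp [ind, h1, h2, h3]
  · have := (odd_line C y.2 ha hb (fun c => h1 c.symm) (fun c => h2 c.symm) h).symm
    simp [ind, h1, h2, this]
    decide

/-- The members of the space are additive on lines. -/
theorem valueAt_third (C : Ctx D n) {v : ↥D → ZMod 2} (hv : v ∈ indSpace D) {x y : G} (hx : x ∈ D) (hy : y ∈ D)
    (h : ¬ Commute x y) : valueAt v (x * y * x) = valueAt v x + valueAt v y := by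
  have hz := conj_invol_mem C.rich.cls hx hy
  induction hv using Submodule.span_induction with
  | mem w hw =>
    obtain ⟨a, ha, rfl⟩ := hw
    have e := congrFun (ind_add C hx hy h) ⟨a, ha⟩
    simp only [valueAt, dif_pos hx, dif_pos hy, dif_pos hz]
    rw [ind_swap ⟨a, ha⟩ ⟨x, hx⟩, ind_swap ⟨a, ha⟩ ⟨y, hy⟩, ind_swap ⟨a, ha⟩ ⟨_, hz⟩]
    exact e.symm
  | zero => simp [valueAt_zero]
  | add v w _ _ hv hw => simp only [valueAt_add, hv, hw]; ring
  | smul c v _ hv => simp only [valueAt_smul, hv]; ring

section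

variable {d : G} {B : LinearMap.BilinForm (ZMod 2) (Fin n → ZMod 2)} {f : G → Fin n → ZMod 2}

open _root_.Classical in
/-- The member with a given label. -/
noncomputable def pre (D : Set G) (d : G) (f : G → Fin n → ZMod 2) (z : Fin n → ZMod 2) : G :=
  if h : ∃ x ∈ perp D d, f x = z then h.choose else d

theorem pre_spec (M : Model D d B f) {z : Fin n → ZMod 2} (hz : z ≠ 0) :
    pre D d f z ∈ perp D d ∧ f (pre D d f z) = z := by
  have h := exists_pre M.co hz
  rw [pre, dif_pos h]
  exact h.choose_spec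

open _root_.Classical in
/-- A function on the members as a function of the labels. -/
noncomputable def phi (D : Set G) (d : G) (f : G → Fin n → ZMod 2) :
    (↥D → ZMod 2) →ₗ[ZMod 2] (Fin n → ZMod 2) → ZMod 2 where
  toFun v z := if z = 0 then 0 else valueAt v (pre D d f z) + valueAt v d
  map_add' v w := by
    funext z
    simp only [Pi.add_apply]
    split_ifs
    · simp
    · simp only [valueAt_add]; ring
  map_smul' c v := by
    funext z
    simp only [RingHom.id_apply, Pi.smul_apply, smul_eq_mul]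
    split_ifs
    · simp
    · simp only [valueAt_smul]; ring

theorem phi_zero (v : ↥D → ZMod 2) : phi D d f v 0 = 0 := if_pos rfl

theorem phi_ne {z : Fin n → ZMod 2} (hz : z ≠ 0) (v : ↥D → ZMod 2) :
    phi D d f v z = valueAt v (pre D d f z) + valueAt v d := if_neg hz

theorem phi_ind_self (M : Model D d B f) (hd : d ∈ D) : phi D d f (ind D d) = 0 := by
  funext z
  rcases eq_or_ne z 0 with rfl | hz
  · exact phi_zero _
  · obtain ⟨hm, -⟩ := pre_spec M hz
    rw [phi_ne hz, (valueAt_ind hm.1).2 hm.2.2, (valueAt_ind hd).2 (Commute.refl d)]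
    rfl

theorem phi_ind_perp (M : Model D d B f) (hd : d ∈ D) {a : G} (ha : a ∈ perp D d) :
    phi D d f (ind D a) = B (f a) := by
  funext z
  rcases eq_or_ne z 0 with rfl | hz
  · simp [phi_zero]
  · obtain ⟨hm, he⟩ := pre_spec M hz
    rw [phi_ne hz, (valueAt_ind hd).2 ha.2.2.symm, add_zero]
    refine eq_of_zero_iff ?_
    rw [valueAt_ind hm.1, comm_iff M.alt M.co ha hm, he]

theorem phi_ind_far (M : Model D d B f) (hd : d ∈ D) {a : G} (hda : ¬ Commute d a) :
    phi D d f (ind D a) = one1 (trace D d a f) := by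
  funext z
  rcases eq_or_ne z 0 with rfl | hz
  · rw [phi_zero, one1_eq_zero.2 (zero_notMem M)]
  · obtain ⟨hm, he⟩ := pre_spec M hz
    rw [phi_ne hz, valueAt_ind_one hd fun c => hda c.symm]
    have hiff : z ∈ trace D d a f ↔ Commute a (pre D d f z) := by
      conv_lhs => rw [← he]
      rw [label_mem_trace M hm]
      exact ⟨fun h => h.2.2.2, fun h => ⟨hm, hm.1, fun e => hda (e ▸ hm.2.2), h⟩⟩
    by_cases h : Commute a (pre D d f z)
    · rw [(valueAt_ind hm.1).2 h, one1_eq_one.2 (hiff.2 h)]; rfl
    · rw [valueAt_ind_one hm.1 h, one1_eq_zero.2 fun e => h (hiff.1 e)]; rfl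

/-- On the labels every member of the space is quadratic, linear if it vanishes at `d`. -/
theorem phi_add (C : Ctx D n) (M : Model D d B f) (hd : d ∈ D) {v : ↥D → ZMod 2} (hv : v ∈ indSpace D) :
    ∀ z z', phi D d f v (z + z') = phi D d f v z + phi D d f v z' + valueAt v d * B z z' := by
  induction hv using Submodule.span_induction with
  | mem w hw =>
    obtain ⟨a, ha, rfl⟩ := hw
    intro z z'
    by_cases hda : Commute d a
    · rw [(valueAt_ind hd).2 hda.symm, zero_mul, add_zero]
      rcases eq_or_ne a d with rfl | hne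
      · simp [phi_ind_self M hd]
      · rw [phi_ind_perp M hd ⟨ha, hne, hda⟩, map_add]
    · rw [valueAt_ind_one hd fun c => hda c.symm, one_mul, phi_ind_far M hd hda]
      exact trace_form C M hd ha hda z z'
  | zero => simp [valueAt_zero]
  | add v w _ _ hv hw => intro z z'; simp only [map_add, Pi.add_apply, hv, hw, valueAt_add]; ring
  | smul c v _ hv => intro z z'; simp only [map_smul, Pi.smul_apply, smul_eq_mul, hv, valueAt_smul]; ring

/-- Only `0` and the indicator of `d` vanish at `d` and all its neighbours. -/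
theorem vanish (C : Ctx D n) (hd : d ∈ D) {v : ↥D → ZMod 2} (hv : v ∈ indSpace D)
    (hvd : valueAt v d = 0) (hvp : ∀ x ∈ perp D d, valueAt v x = 0) : v = 0 ∨ v = ind D d := by
  have hR := C.rich
  have hD := hR.cls
  obtain ⟨c, hc, hdc⟩ := ThreeTr.exists_not_commute hD hR.two hd
  suffices ∀ u ∈ indSpace D, valueAt u d = 0 → (∀ x ∈ perp D d, valueAt u x = 0) → valueAt u c = 0 → u = 0 by
    rcases bit (valueAt v c) with h | h
    · exact Or.inl (this v hv hvd hvp h)
    · refine Or.inr ((eq_iff_add _ _).2 (this _ (add_mem hv (ind_mem hd)) ?_ (fun x hx => ?_) ?_))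
      · rw [valueAt_add, hvd, (valueAt_ind hd).2 (Commute.refl d), add_zero]
      · rw [valueAt_add, hvp x hx, (valueAt_ind hx.1).2 hx.2.2, add_zero]
      · rw [valueAt_add, h, valueAt_ind_one hc hdc]; rfl
  intro u hu hud hup huc
  set Z : Set G := {x | x ∈ D ∧ valueAt u x = 0} with hZ
  have hone : ∀ x ∈ Z, ∀ y ∈ Z, x * y * x ∈ Z := fun x hx y hy => by
    by_cases h : Commute x y
    · rw [h.eq, mul_assoc, sq_eq_one hD.1 hx.1, mul_one]; exact hy
    · exact ⟨conj_invol_mem hD hx.1 hy.1, by rw [valueAt_third C hu hx.1 hy.1 h, hx.2, hy.2, add_zero]⟩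
  have hnorm : closure Z ≤ normalizer Z := (closure_le _).2 fun x hx => mem_set_normalizer_iff.2 fun y => by
    rw [inv_eq hD.1 hx.1]
    exact ⟨hone x hx y, fun h => by simpa [invol_conj_conj (sq_eq_one hD.1 hx.1)] using hone x hx _ h⟩
  have htop : closure Z = ⊤ := by
    obtain ⟨-, -, h3⟩ := Cfsg.Agent.S5354.result (G := G) (D := D)
      ⟨hD.1, fun g x hx => ThreeTr.conj_mem hD g hx, hD.2.2⟩ hR.prim hR.pair
    obtain ⟨-, hmax⟩ := h3 d hd
    refine (hmax _ (le_antisymm ((closure_le _).2 fun y hy => hy.2)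
      (closure_mono fun y hy => ⟨hy.1, subset_closure hy⟩)) ((closure_le _).2 fun y hy => subset_closure ?_))
        |>.resolve_left fun e => hdc ?_
    · rcases eq_or_ne y d with rfl | hne
      · exact ⟨hd, hud⟩
      · exact ⟨hy.1, hup y ⟨hy.1, hne, hy.2⟩⟩
    · have hle : closure {y : G | y ∈ D ∧ Commute d y} ≤ centralizer {d} := (closure_le _).2 fun y hy =>
        mem_centralizer_singleton_iff.2 hy.2.symm.eq
      exact (mem_centralizer_singleton_iff.1 (hle (e ▸ subset_closure (show c ∈ Z from ⟨hc, huc⟩)))).symm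
  refine funext fun x => ?_
  obtain ⟨g, hg⟩ := ThreeTr.exists_conj hD hd x.2
  have := (mem_set_normalizer_iff.1 (hnorm (htop ▸ mem_top g)) d).1 ⟨hd, hud⟩
  rw [hg] at this
  rw [← valueAt_mem u x]
  exact this.2

/-- Of two vectors orthogonal to an indicator and differing by it, exactly one is an indicator. -/
theorem ind_one (C : Ctx D n) (hd : d ∈ D) {v : ↥D → ZMod 2} (hv : v ∈ indSpace D) (hvd : valueAt v d = 0)
    (h0 : v ≠ 0) (hne : v ≠ ind D d) : v + ind D d ∈ ind D '' D ↔ v ∉ ind D '' D := by
  obtain ⟨B, f, M⟩ := C.exists_model hd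
  have hd0 : valueAt (ind D d) d = 0 := (valueAt_ind hd).2 (Commute.refl d)
  constructor
  · rintro ⟨b, hb, eb⟩ ⟨a, ha, rfl⟩
    have hA : a ∈ perp D d := ⟨ha, fun e => hne (by rw [e]), ((valueAt_ind hd).1 hvd).symm⟩
    have hB : b ∈ perp D d := ⟨hb, fun e => h0 (by subst e; exact add_eq_right.1 eb.symm),
      ((valueAt_ind hd).1 (by rw [eb, valueAt_add, hvd, hd0, add_zero])).symm⟩
    have e1 : phi D d f (ind D b) = phi D d f (ind D a) := by rw [eb, map_add, phi_ind_self M hd, add_zero]
    rw [phi_ind_perp M hd hA, phi_ind_perp M hd hB] at e1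
    have e2 : b = a := label_inj M.co hB hA ((eq_iff_add _ _).2 (M.nd.1 _ fun z => by
      rw [map_add, LinearMap.add_apply, congrFun e1 z, CharTwo.add_self_eq_zero]))
    subst e2
    obtain ⟨c, hc, hdc⟩ := ThreeTr.exists_not_commute C.rich.cls C.rich.two hd
    have := congrArg (fun t => valueAt t c) (add_eq_left.1 eb.symm)
    simp only [valueAt_ind_one hc hdc, valueAt_zero] at this
    exact one_ne_zero this
  · intro hnot
    let L : (Fin n → ZMod 2) →ₗ[ZMod 2] ZMod 2 := AddMonoidHom.toZModLinearMap 2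
      { toFun := phi D d f v
        map_zero' := phi_zero v
        map_add' := fun z z' => by rw [phi_add C M hd hv, hvd, zero_mul, add_zero] }
    obtain ⟨w, hw⟩ := (B.toDual M.nd).surjective L
    have hBw : ∀ z, B w z = phi D d f v z := fun z => by
      rw [← LinearMap.BilinForm.toDual_def M.nd, hw]; rfl
    have hpv : ∀ x ∈ perp D d, valueAt v x = B w (f x) := fun x hx => by
      have hz : f x ≠ 0 := M.co.mem x hx
      obtain ⟨hm, he⟩ := pre_spec M hz
      rw [hBw, phi_ne hz, hvd, add_zero, label_inj M.co hm hx he]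
    rcases eq_or_ne w 0 with rfl | hw0
    · rcases vanish C hd hv hvd (fun x hx => by simp [hpv x hx]) with e | e
      exacts [absurd e h0, absurd e hne]
    obtain ⟨e, he, rfl⟩ := exists_pre M.co hw0
    rcases vanish C hd (add_mem hv (ind_mem he.1))
        (by rw [valueAt_add, hvd, (valueAt_ind hd).2 he.2.2.symm, add_zero]) (fun x hx => by
          rw [valueAt_add, hpv x hx]
          have : valueAt (ind D e) x = B (f e) (f x) :=
            eq_of_zero_iff (by rw [valueAt_ind hx.1, comm_iff M.alt M.co he hx])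
          rw [this, CharTwo.add_self_eq_zero]) with h | h
    · exact absurd ⟨e, he.1, ((eq_iff_add _ _).2 h).symm⟩ hnot
    · exact ⟨e, he.1, by rw [← h, ← add_assoc, add_self, zero_add]⟩

end

end Cfsg.Lib.Fischer.SpUp
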