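import Cfsg.Agent.Fischer.Two

/-!
A class with symplectic perp sets: every trace is the set of value one of a quadratic form, and a member commutes
with an odd number of the members of every line.
-/

set_option autoImplicit false
set_option linter.unusedSectionVars false

namespace Cfsg.Lib.Fischer.SpUp

open Cfsg Subgroup Cfsg.Lib.ThreeTr
open Cfsg.Lib.Fischer.Two

universe u

variable {G : Type u} [Group G] [Finite G] {D : Set G} {n : ℕ}

/-- All perp sets are symplectic in dimension `n`. -/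
structure Ctx (D : Set G) (n : ℕ) : Prop where
  rich : Rich D
  four : 4 ≤ n
  sp : ∀ d ∈ D, SpLike (perp D d) n

theorem Ctx.of_one (hR : Rich D) (h4 : 4 ≤ n) {d : G} (hd : d ∈ D) (h : SpLike (perp D d) n) : Ctx D n := by
  refine ⟨hR, h4, fun x hx => ?_⟩
  obtain ⟨g, hg⟩ := ThreeTr.exists_conj hR.cls hx hd
  have hi := graphIso_conj hR.cls g x
  rw [hg] at hi
  exact hi.spLike h

/-- Symplectic labels of the neighbours of `d`. -/
structure Model (D : Set G) (d : G) (B : LinearMap.BilinForm (ZMod 2) (Fin n → ZMod 2))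
    (f : G → Fin n → ZMod 2) : Prop where
  alt : B.IsAlt
  nd : B.Nondegenerate
  co : Coords (perp D d) (fun v => v ≠ 0) (fun v w => B v w) f

theorem Ctx.exists_model (C : Ctx D n) {d : G} (hd : d ∈ D) : ∃ B f, Model (n := n) D d B f := by
  obtain ⟨B, hA, hN, f, hf⟩ := C.sp d hd
  exact ⟨B, f, hA, hN, hf⟩

theorem Ctx.finrank_eq (C : Ctx D n) : 4 ≤ Module.finrank (ZMod 2) (Fin n → ZMod 2) := by
  rw [Module.finrank_fin_fun]; exact C.four

theorem Ctx.third (C : Ctx D n) {d : G} {B : LinearMap.BilinForm (ZMod 2) (Fin n → ZMod 2)}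
    {f : G → Fin n → ZMod 2} (M : Model D d B f) {x y : G} (hx : x ∈ perp D d) (hy : y ∈ perp D d)
    (h : ¬ Commute x y) : f (x * y * x) = f x + f y :=
  label_third M.alt M.nd M.co ⟨fun a ha => C.rich.cls.1.1 a ha.1, fun a ha b hb => C.rich.cls.1.2 a ha.1 b hb.1⟩
    (fun _ ha _ hb => perp_closed C.rich.cls ha hb) hx hy h

/-- The labels of the common neighbours. -/
def trace (D : Set G) (d c : G) (f : G → Fin n → ZMod 2) : Set (Fin n → ZMod 2) := f '' common D d c

section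

variable {d c : G} {B : LinearMap.BilinForm (ZMod 2) (Fin n → ZMod 2)} {f : G → Fin n → ZMod 2}

theorem zero_notMem (M : Model D d B f) : (0 : Fin n → ZMod 2) ∉ trace D d c f := by
  rintro ⟨x, hx, e⟩
  exact M.co.mem x hx.1 e

theorem label_mem_trace (M : Model D d B f) {x : G} (hx : x ∈ perp D d) :
    f x ∈ trace D d c f ↔ x ∈ common D d c :=
  ⟨fun ⟨_, hy, e⟩ => label_inj M.co hy.1 hx e ▸ hy, fun h => ⟨x, h, rfl⟩⟩

/-- Of two labels orthogonal to a member of the trace and differing by it, exactly one lies in the trace. -/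
theorem trace_one (C : Ctx D n) (M : Model D d B f) (hd : d ∈ D) (hc : c ∈ D) (hdc : ¬ Commute d c) :
    ∀ a ∈ trace D d c f, ∀ v, B a v = 0 → v ≠ 0 → v ≠ a →
      (v + a ∈ trace D d c f ↔ v ∉ trace D d c f) := by
  rintro _ ⟨y, hy, rfl⟩ v hv hv0 hva
  obtain ⟨x, hx, rfl⟩ := exists_pre M.co hv0
  have hva' : f x + f y ≠ 0 := fun e => hva ((eq_iff_add _ _).2 e)
  obtain ⟨x', hx', he'⟩ := exists_pre M.co hva'
  rw [← he', label_mem_trace M hx, label_mem_trace M hx']
  obtain ⟨g, hgy, hp, hq, hpq, hiff, hcom⟩ := exists_view C.rich hd hc hdc hy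
  have hyx : x ∈ perp D y := ⟨hx.1, fun e => hva (congrArg f e), (comm_iff M.alt M.co hy.1 hx).2 hv⟩
  have hyx' : x' ∈ perp D y := ⟨hx'.1, fun e => by
    subst e
    exact M.co.mem x hx (add_eq_right.1 he'.symm),
    (comm_iff M.alt M.co hy.1 hx').2 (by rw [he', map_add, hv, form_self M.alt, add_zero])⟩
  set p := g * d * g⁻¹ with hp'
  set X := g * x * g⁻¹ with hXd
  set X' := g * x' * g⁻¹ with hXd'
  have hX : X ∈ perp D d := (hiff x).2 hyx
  have hX' : X' ∈ perp D d := (hiff x').2 hyx'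
  have cp : Commute p X := (conj_commute_iff g d x).2 hx.2.2
  have cp' : Commute p X' := (conj_commute_iff g d x').2 hx'.2.2
  have hkey : ∀ z, B (f p) z = 0 → B (f X + f X') z = 0 := fun z hz => by
    rw [map_add, LinearMap.add_apply]
    rcases eq_or_ne z 0 with rfl | hz0
    · simp
    obtain ⟨W, hW, rfl⟩ := exists_pre M.co hz0
    have e : g * (g⁻¹ * W * g) * g⁻¹ = W := by group
    generalize g⁻¹ * W * g = w at e
    subst e
    rcases eq_or_ne w d with rfl | hwd
    · rw [(comm_iff M.alt M.co hX hp).1 cp.symm, (comm_iff M.alt M.co hX' hp).1 cp'.symm, add_zero]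
    have hwy := (hiff w).1 hW
    have hwE : w ∈ perp D d :=
      ⟨hwy.1, hwd, (conj_commute_iff g d w).1 ((comm_iff M.alt M.co hp hW).2 hz)⟩
    have hiffw : Commute x w ↔ Commute x' w := by
      rw [comm_iff M.alt M.co hx hwE, comm_iff M.alt M.co hx' hwE, he', map_add, LinearMap.add_apply,
        (comm_iff M.alt M.co hy.1 hwE).1 hwy.2.2, add_zero]
    have : B (f X) (f (g * w * g⁻¹)) = B (f X') (f (g * w * g⁻¹)) := eq_of_zero_iff (by
      rw [← comm_iff M.alt M.co hX hW, ← comm_iff M.alt M.co hX' hW, conj_commute_iff, conj_commute_iff]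
      exact hiffw)
    rw [this, CharTwo.add_self_eq_zero]
  have hsum : f X + f X' = f p := by
    rcases zero_or_eq M.nd (M.co.mem p hp) hkey with h0 | h0
    · have e := label_inj M.co hX hX' ((eq_iff_add _ _).2 h0)
      exfalso
      have e' : x = x' := mul_left_cancel (mul_right_cancel e)
      subst e'
      exact M.co.mem y hy.1 (add_eq_left.1 he'.symm)
    · exact h0
  have hmem : ∀ {z : G}, z ∈ perp D d → z ∈ perp D y →
      (z ∈ common D d c ↔ B (f (g * z * g⁻¹)) (f (g * c * g⁻¹)) = 0) := by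
    intro z hzd hzy
    have hZ := (hiff z).2 hzy
    refine ⟨fun h => (comm_iff M.alt M.co hZ hq).1 ((hcom z).2 ⟨h, hzy⟩).2.2.2.symm, fun h => ?_⟩
    have hqz := ((comm_iff M.alt M.co hZ hq).2 h).symm
    have hpz : Commute p (g * z * g⁻¹) := (conj_commute_iff g d z).2 hzd.2.2
    exact ((hcom z).1 ⟨⟨hZ, fun e => hzd.2.1 (mul_left_cancel (mul_right_cancel e)), hpz⟩,
      hZ, fun e => hpq (e ▸ hpz), hqz⟩).1
  have hX'e : f X' = f X + f p := by rw [← hsum, ← add_assoc, add_self, zero_add]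
  rw [hmem hx hyx, hmem hx' hyx', ← hXd, ← hXd', hX'e, map_add, LinearMap.add_apply,
    form_eq_one M.alt M.co hp hq hpq]
  generalize B (f X) (f (g * c * g⁻¹)) = b
  revert b
  decide

theorem trace_add (C : Ctx D n) (M : Model D d B f) :
    ∀ a ∈ trace D d c f, ∀ v ∈ trace D d c f, B a v = 1 → v + a ∈ trace D d c f := by
  rintro _ ⟨y, hy, rfl⟩ _ ⟨x, hx, rfl⟩ h
  have hn : ¬ Commute x y := fun hc => by
    rw [alt_symm M.alt, (comm_iff M.alt M.co hx.1 hy.1).1 hc] at h
    exact zero_ne_one h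
  exact ⟨x * y * x, ⟨perp_closed C.rich.cls hx.1 hy.1, perp_closed C.rich.cls hx.2 hy.2⟩, C.third M hx.1 hy.1 hn⟩

theorem trace_span (C : Ctx D n) (M : Model D d B f) (hd : d ∈ D) (hc : c ∈ D) (hdc : ¬ Commute d c) :
    Submodule.span (ZMod 2) (trace D d c f) = ⊤ := by
  set H := Submodule.span (ZMod 2) (trace D d c f) with hH
  have hperp : ∀ a ∈ trace D d c f, ∀ v, B a v = 0 → v ∈ H := fun a ha v hv => by
    rcases eq_or_ne v 0 with rfl | hv0
    · exact H.zero_mem
    rcases eq_or_ne v a with rfl | hva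
    · exact Submodule.subset_span ha
    by_cases h : v ∈ trace D d c f
    · exact Submodule.subset_span h
    · rw [← add_add_self v a]
      exact H.add_mem (Submodule.subset_span ((trace_one C M hd hc hdc a ha v hv hv0 hva).2 h))
        (Submodule.subset_span ha)
  obtain ⟨y, hy⟩ := exists_common C.rich hd hc hdc
  obtain ⟨a, ha⟩ : ∃ a, a ∈ trace D d c f := ⟨_, y, hy, rfl⟩
  obtain ⟨v, hv, -, hv0, hva⟩ := exists_kernel C.finrank_eq (B a) (B a) a
  obtain ⟨b, hb, hba⟩ : ∃ b ∈ trace D d c f, b ≠ a := by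
    by_cases h : v ∈ trace D d c f
    · exact ⟨v, h, hva⟩
    · exact ⟨v + a, (trace_one C M hd hc hdc a ha v hv hv0 hva).2 h, fun e => hv0 (add_eq_right.1 e)⟩
  have ha0 : a ≠ 0 := fun e => zero_notMem M (e ▸ ha)
  have hb0 : b ≠ 0 := fun e => zero_notMem M (e ▸ hb)
  obtain ⟨u, hu, hu1⟩ : ∃ u, B b u = 0 ∧ B a u = 1 := by
    by_contra h
    push Not at h
    rcases zero_or_eq M.nd hb0 (u := a) fun z hz => (bit _).resolve_right (h z hz) with h0 | h0
    exacts [ha0 h0, hba h0.symm]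
  rw [eq_top_iff]
  intro z _
  rcases bit (B a z) with h | h
  · exact hperp a ha z h
  · rw [← add_add_self z u]
    exact H.add_mem (hperp a ha _ (by rw [map_add, h, hu1, CharTwo.add_self_eq_zero])) (hperp b hb u hu)

/-- The trace is the set of value one of a form with polar `B`. -/
theorem trace_form (C : Ctx D n) (M : Model D d B f) (hd : d ∈ D) (hc : c ∈ D) (hdc : ¬ Commute d c) :
    ∀ v w, one1 (trace D d c f) (v + w) = one1 (trace D d c f) v + one1 (trace D d c f) w + B v w :=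
  one1_add M.alt (zero_notMem M) (trace_one C M hd hc hdc) (trace_add C M) (trace_span C M hd hc hdc)

end

/-- Two members not commuting with `d` have a common neighbour commuting with it. -/
theorem common_inter (C : Ctx D n) {d c₁ c₂ : G} (hd : d ∈ D) (h₁ : c₁ ∈ D) (h₂ : c₂ ∈ D) (hd₁ : ¬ Commute d c₁)
    (hd₂ : ¬ Commute d c₂) : ∃ y, y ∈ common D d c₁ ∧ y ∈ common D d c₂ := by
  obtain ⟨B, f, M⟩ := C.exists_model hd
  set q₁ := one1 (trace D d c₁ f) with hq₁
  set q₂ := one1 (trace D d c₂ f) with hq₂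
  have e₁ := trace_form C M hd h₁ hd₁
  have e₂ := trace_form C M hd h₂ hd₂
  rw [← hq₁] at e₁
  rw [← hq₂] at e₂
  suffices ∃ v, q₁ v = 1 ∧ q₂ v = 1 by
    obtain ⟨v, hv₁, hv₂⟩ := this
    obtain ⟨y, hy, rfl⟩ := one1_eq_one.1 hv₁
    exact ⟨y, hy, (label_mem_trace M hy.1).1 (one1_eq_one.1 hv₂)⟩
  obtain ⟨y, hy⟩ := exists_common C.rich hd h₁ hd₁
  set a := f y with hadef
  have ha : q₁ a = 1 := one1_eq_one.2 ⟨y, hy, rfl⟩
  rcases bit (q₂ a) with ha₂ | ha₂
  swap
  · exact ⟨a, ha, ha₂⟩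
  let L : (Fin n → ZMod 2) →ₗ[ZMod 2] ZMod 2 := AddMonoidHom.toZModLinearMap 2
    { toFun := fun v => q₁ v + q₂ v
      map_zero' := by
        simp only [hq₁, hq₂, one1_eq_zero.2 (zero_notMem M), add_zero]
      map_add' := fun v w => by
        rw [e₁, e₂]
        linear_combination CharTwo.add_self_eq_zero (B v w) }
  obtain ⟨w, hw⟩ := (B.toDual M.nd).surjective L
  have hBw : ∀ v, B w v = q₁ v + q₂ v := fun v => by
    rw [← LinearMap.BilinForm.toDual_def M.nd, hw]; rfl
  obtain ⟨v, hwv, hav, hv0, -⟩ := exists_kernel C.finrank_eq (B w) (B a) 0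
  obtain ⟨z, hz⟩ := exists_one M.nd hv0
  set z' := z + B w z • a + B a z • w with hz'
  have hwa : B w a = 1 := by rw [hBw, ha, ha₂, add_zero]
  have hwz : B w z' = 0 := by
    simp [hz', hwa, form_self M.alt, CharTwo.add_self_eq_zero]
  have haz : B a z' = 0 := by
    simp [hz', (alt_symm M.alt a w).trans hwa, form_self M.alt, CharTwo.add_self_eq_zero]
  have hvz : B v z' = 1 := by
    simp [hz', hz, (alt_symm M.alt v w).trans hwv, (alt_symm M.alt v a).trans hav]
  have key : ∀ t, B w t = 0 → q₁ t = 1 → q₂ t = 1 := fun t ht h1 => by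
    have := (hBw t).symm.trans ht
    rw [h1] at this
    revert this
    generalize q₂ t = b
    revert b
    decide
  rcases bit (q₁ v) with h1 | h1
  swap
  · exact ⟨v, h1, key v hwv h1⟩
  rcases bit (q₁ z') with h2 | h2
  swap
  · exact ⟨z', h2, key z' hwz h2⟩
  have h3 : q₁ (v + z') = 1 := by rw [e₁, h1, h2, hvz]; rfl
  exact ⟨v + z', h3, key _ (by rw [map_add, hwv, hwz, add_zero]) h3⟩

/-- No member avoids all three members of a line. -/
theorem odd_line (C : Ctx D n) {d c₁ c₂ : G} (hd : d ∈ D) (h₁ : c₁ ∈ D) (h₂ : c₂ ∈ D) (hd₁ : ¬ Commute d c₁)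
    (hd₂ : ¬ Commute d c₂) (h₁₂ : ¬ Commute c₁ c₂) : Commute d (c₁ * c₂ * c₁) := by
  obtain ⟨y, hy₁, hy₂⟩ := common_inter C hd h₁ h₂ hd₁ hd₂
  have hD := C.rich.cls
  obtain ⟨g, hg⟩ := ThreeTr.exists_conj hD hy₁.1.1 hd
  obtain ⟨B, f, M⟩ := C.exists_model hd
  have hi : ∀ {e}, e ∈ perp D y → g * e * g⁻¹ ∈ perp D d := fun {e} he => by
    have := (graphIso_conj hD g y).mem he
    rwa [hg] at this
  have D0 := hi (mem_perp_comm hd hy₁.1)
  have D1 := hi (mem_perp_comm h₁ hy₁.2)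
  have D2 := hi (mem_perp_comm h₂ hy₂.2)
  have hn : ∀ a b, ¬ Commute a b → ¬ Commute (g * a * g⁻¹) (g * b * g⁻¹) := fun a b h hh =>
    h ((conj_commute_iff g a b).1 hh)
  rw [← conj_commute_iff g]
  have e : g * (c₁ * c₂ * c₁) * g⁻¹ = g * c₁ * g⁻¹ * (g * c₂ * g⁻¹) * (g * c₁ * g⁻¹) := by group
  rw [e, comm_iff M.alt M.co D0 (perp_closed hD D1 D2), C.third M D1 D2 (hn _ _ h₁₂), map_add,
    form_eq_one M.alt M.co D0 D1 (hn _ _ hd₁), form_eq_one M.alt M.co D0 D2 (hn _ _ hd₂)]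
  rfl

end Cfsg.Lib.Fischer.SpUp
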